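import Mathlib
import Cfsg.Agent.Zsigmondy.Basic
import Cfsg.Agent.Zsigmondy.Cyclotomic

/-! The `r`-adic valuation of `a ^ N - 1` through cyclotomic values. -/

set_option autoImplicit false

namespace CfsgLib.Zsigmondy

theorem pow_sub_one_ne_zero {a N : ℕ} (ha : 2 ≤ a) (hN : 0 < N) : a ^ N - 1 ≠ 0 := by
  have : 1 < a ^ N := Nat.one_lt_pow hN.ne' ha
  omega

theorem padicValNat_pow_sub_one_eq_zero {r a N : ℕ} (ha : 1 ≤ a)
    (h : ¬ orderOf (a : ZMod r) ∣ N) : padicValNat r (a ^ N - 1) = 0 :=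
  padicValNat.eq_zero_of_not_dvd fun hd => h ((dvd_pow_sub_one_iff ha N).mp hd)

/-- For `N = d m` with `d` the order of `a` modulo `r` and `r ∤ m`, the `r`-part of `a ^ N - 1` is the
`r`-part of `Φ_d(a)`. -/
theorem padicValNat_pow_mul_sub_one {r a m : ℕ} [hr : Fact r.Prime] (ha : 2 ≤ a) (hra : ¬ r ∣ a)
    (hm : ¬ r ∣ m) :
    padicValNat r (a ^ (orderOf (a : ZMod r) * m) - 1) =
      padicValNat r (cyc a (orderOf (a : ZMod r))) := by
  set d := orderOf (a : ZMod r) with hd
  have hd0 : 0 < d := orderOf_pos_of_not_dvd hra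
  have hm0 : m ≠ 0 := fun h => hm (h ▸ dvd_zero r)
  have hN : d * m ≠ 0 := Nat.mul_ne_zero hd0.ne' hm0
  have hmem : d ∈ (d * m).divisors := Nat.mem_divisors.mpr ⟨dvd_mul_right d m, hN⟩
  rw [← prod_cyc ha (Nat.pos_of_ne_zero hN), ← Finset.mul_prod_erase _ _ hmem,
    padicValNat.mul (cyc_pos ha d).ne' (Finset.prod_pos fun e _ => cyc_pos ha e).ne']
  have : padicValNat r (∏ e ∈ (d * m).divisors.erase d, cyc a e) = 0 := by
    refine padicValNat.eq_zero_of_not_dvd fun h => ?_
    obtain ⟨e, he, hde⟩ := hr.out.prime.dvd_finsetProd_iff _ |>.mp h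
    rw [Finset.mem_erase, Nat.mem_divisors] at he
    obtain ⟨j, hj⟩ := (dvd_cyc_iff hr.out (Nat.pos_of_dvd_of_pos he.2.1 (Nat.pos_of_ne_zero hN))).mp hde
    rcases Nat.eq_zero_or_pos j with rfl | hjpos
    · exact he.1 (by rw [hj, pow_zero, mul_one])
    · apply hm
      have h2 : d * r ^ j ∣ d * m := hj ▸ he.2.1
      exact (dvd_pow_self r hjpos.ne').trans (Nat.dvd_of_mul_dvd_mul_left hd0 h2)
  rw [this, add_zero]

/-- The valuation of `a ^ d - 1`, `d` the order of `a` modulo `r`. -/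
theorem padicValNat_pow_orderOf_sub_one {r a : ℕ} [hr : Fact r.Prime] (ha : 2 ≤ a) (hra : ¬ r ∣ a) :
    padicValNat r (a ^ orderOf (a : ZMod r) - 1) = padicValNat r (cyc a (orderOf (a : ZMod r))) := by
  have := padicValNat_pow_mul_sub_one (m := 1) ha hra hr.out.not_dvd_one
  rwa [mul_one] at this

/-- Valuation of `∏_{i ∈ S} (a ^ i - 1)` when every `i ∈ S` is positive and less than `r`. -/
theorem padicValNat_prod_pow_sub_one {r a : ℕ} [hr : Fact r.Prime] (ha : 2 ≤ a) (hra : ¬ r ∣ a)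
    (S : Finset ℕ) (hS : ∀ i ∈ S, 0 < i ∧ i < r) :
    padicValNat r (∏ i ∈ S, (a ^ i - 1)) =
      (S.filter (fun i => orderOf (a : ZMod r) ∣ i)).card *
        padicValNat r (cyc a (orderOf (a : ZMod r))) := by
  induction S using Finset.induction_on with
  | empty => simp
  | insert i S hi ih =>
    obtain ⟨hi0, hir⟩ := hS i (Finset.mem_insert_self i S)
    have ih' := ih fun j hj => hS j (Finset.mem_insert_of_mem hj)
    rw [Finset.prod_insert hi, padicValNat.mul (pow_sub_one_ne_zero ha hi0)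
      (Finset.prod_ne_zero_iff.mpr fun j hj => pow_sub_one_ne_zero ha (hS j (Finset.mem_insert_of_mem hj)).1),
      ih', Finset.filter_insert]
    by_cases hdi : orderOf (a : ZMod r) ∣ i
    · obtain ⟨m, hm⟩ := hdi
      rw [if_pos ⟨m, hm⟩, Finset.card_insert_of_notMem (fun h => hi (Finset.mem_filter.mp h).1), hm,
        padicValNat_pow_mul_sub_one ha hra (fun h => by
          have hm0 : 0 < m := Nat.pos_of_ne_zero fun h0 => by rw [h0, mul_zero] at hm; omega
          have h1 := Nat.le_of_dvd hm0 h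
          have h2 : m ≤ i := hm ▸ Nat.le_mul_of_pos_left m (orderOf_pos_of_not_dvd hra)
          omega), add_mul, one_mul, add_comm]
    · rw [if_neg hdi, padicValNat_pow_sub_one_eq_zero (by omega) hdi, zero_add]

end CfsgLib.Zsigmondy
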