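import Mathlib
import Cfsg.Agent.Zsigmondy.Valuation
import Cfsg.Agent.Classical.Linear.Card

/-! Sylow `r`-subgroups of `GL_n(q)` and `SL_n(q)` for `r > n`. -/

set_option autoImplicit false

open Matrix

namespace CfsgLib.Zsigmondy.SylowLinear

/-- The cyclic group of order `r ^ v_r(Φ_d(q))`. -/
abbrev Cyc (r q : ℕ) : Type :=
  Multiplicative (ZMod (r ^ padicValNat r (cyc q (orderOf (q : ZMod r)))))

theorem sylow_equiv_of_embedding {G H : Type*} [Group G] [Finite G] [Group H] {r : ℕ} [Fact r.Prime]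
    (φ : H →* G) (hφ : Function.Injective φ)
    (hcard : Nat.card H = r ^ padicValNat r (Nat.card G)) (P : Sylow r G) :
    Nonempty (↥(P : Subgroup G) ≃* H) := by
  have h1 : Nat.card φ.range = r ^ (Nat.card G).factorization r := by
    rw [Nat.factorization_def _ Fact.out, ← hcard]
    exact Nat.card_congr (MonoidHom.ofInjective hφ).symm.toEquiv
  exact ⟨(Sylow.equiv P (Sylow.ofCard φ.range h1)).trans (MonoidHom.ofInjective hφ).symm⟩

theorem exists_hom_units {L : Type*} [Field L] [Finite L] {N : ℕ} (hN : N ∣ Nat.card L - 1) :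
    ∃ f : Multiplicative (ZMod N) →* Lˣ, Function.Injective f := by
  obtain ⟨g, hg⟩ := IsCyclic.exists_generator (α := Lˣ)
  have hord : orderOf g = Nat.card L - 1 := by
    rw [orderOf_eq_card_of_forall_mem_zpowers hg, Nat.card_units]
  have hpos : 0 < Nat.card L - 1 := Nat.sub_pos_of_lt Finite.one_lt_card
  obtain ⟨c, hc⟩ := hN
  have hN0 : N ≠ 0 := fun h => by rw [h, zero_mul] at hc; omega
  have hg' : orderOf (g ^ c) = N := by
    have hc0 : c ≠ 0 := fun h => by rw [h, mul_zero] at hc; omega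
    have hd : c ∣ orderOf g := ⟨N, by rw [hord, hc, mul_comm]⟩
    rw [orderOf_pow_of_dvd hc0 hd, hord, hc, Nat.mul_div_cancel _ (Nat.pos_of_ne_zero hc0)]
  have : NeZero N := ⟨hN0⟩
  let e : Multiplicative (ZMod N) ≃* ↥(Subgroup.zpowers (g ^ c)) :=
    mulEquivOfCyclicCardEq (by rw [Nat.card_zpowers, hg']; simp)
  exact ⟨(Subgroup.subtype _).comp e.toMonoidHom,
    (Subgroup.subtype_injective _).comp e.injective⟩

theorem card_gl_eq_prod {F : Type*} [Field F] [Fintype F] (n : ℕ) :
    Nat.card (GL (Fin n) F) = (∏ i : Fin n, Fintype.card F ^ (i : ℕ)) *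
      ∏ i ∈ Finset.Icc 1 n, (Fintype.card F ^ i - 1) := by
  have h : ∏ i ∈ Finset.Icc 1 n, (Fintype.card F ^ i - 1) =
      ∏ i : Fin n, (Fintype.card F ^ (n - (i : ℕ)) - 1) := by
    refine (Finset.prod_bij (fun (i : Fin n) _ => n - (i : ℕ)) (fun i _ => ?_) (fun a _ b _ h => ?_)
      (fun j hj => ?_) (fun i _ => rfl)).symm
    · rw [Finset.mem_Icc]; omega
    · exact Fin.ext (by omega)
    · rw [Finset.mem_Icc] at hj
      exact ⟨⟨n - j, by omega⟩, Finset.mem_univ _, by simp only; omega⟩
  rw [h, ← Finset.prod_mul_distrib, Matrix.card_GL_field]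
  refine Finset.prod_congr rfl fun i _ => ?_
  rw [Nat.mul_sub_one, ← pow_add, Nat.add_sub_cancel' i.2.le]

section

variable {F : Type*} [Field F] [Fintype F] {q : ℕ} {r : ℕ} [hr : Fact r.Prime]

theorem padicValNat_card_gl (hq : Fintype.card F = q) {n : ℕ} (hrn : n < r) (hrq : ¬ r ∣ q) :
    padicValNat r (Nat.card (GL (Fin n) F)) =
      (n / orderOf (q : ZMod r)) * padicValNat r (cyc q (orderOf (q : ZMod r))) := by
  have hq2 : 2 ≤ q := hq ▸ Fintype.one_lt_card
  rw [card_gl_eq_prod, hq, padicValNat.mul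
    (Finset.prod_ne_zero_iff.mpr fun i _ => pow_ne_zero _ (by omega))
    (Finset.prod_ne_zero_iff.mpr fun i hi => pow_sub_one_ne_zero hq2 (Finset.mem_Icc.mp hi).1)]
  have h1 : padicValNat r (∏ i : Fin n, q ^ (i : ℕ)) = 0 := by
    refine padicValNat.eq_zero_of_not_dvd fun h => ?_
    obtain ⟨i, -, hi⟩ := hr.out.prime.dvd_finsetProd_iff _ |>.mp h
    exact hrq (hr.out.dvd_of_dvd_pow hi)
  rw [h1, zero_add, padicValNat_prod_pow_sub_one hq2 hrq _
    (fun i hi => ⟨(Finset.mem_Icc.mp hi).1, by have := (Finset.mem_Icc.mp hi).2; omega⟩)]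
  rw [show Finset.Icc 1 n = Finset.Ioc 0 n from rfl, Nat.Ioc_filter_dvd_card_eq_div]

theorem exists_gl_torus (hq : Fintype.card F = q) (n : ℕ) (hrq : ¬ r ∣ q) :
    ∃ φ : (Fin (n / orderOf (q : ZMod r)) → Cyc r q) →* GL (Fin n) F, Function.Injective φ := by
  obtain ⟨p, hp⟩ := CharP.exists F
  have : Fact p.Prime := ⟨CharP.char_is_prime F p⟩
  have hq2 : 2 ≤ q := hq ▸ Fintype.one_lt_card
  set d := orderOf (q : ZMod r) with hd
  have hd0 : 0 < d := orderOf_pos_of_not_dvd hrq
  have : NeZero d := ⟨hd0.ne'⟩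
  let L := FiniteField.Extension F p d
  have hL : Nat.card L = q ^ d := by
    rw [FiniteField.natCard_extension, Nat.card_eq_fintype_card, hq]
  obtain ⟨f, hf⟩ := exists_hom_units (L := L) (N := r ^ padicValNat r (cyc q d))
    (hL ▸ pow_padicValNat_dvd.trans (cyc_dvd hq2 hd0))
  let A := (Fin (n / d) → L) × (Fin (n % d) → F)
  have hfin : Module.finrank F A = n := by
    show Module.finrank F ((Fin (n / d) → L) × (Fin (n % d) → F)) = n
    rw [Module.finrank_prod, Module.finrank_pi_fintype, Module.finrank_fin_fun]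
    simp only [L, FiniteField.finrank_extension, Finset.sum_const, Finset.card_univ, Fintype.card_fin,
      smul_eq_mul]
    exact Nat.div_add_mod' n d
  let b : Module.Basis (Fin n) F A := Module.finBasisOfFinrankEq F A hfin
  let u : (Fin (n / d) → Cyc r q) →* Aˣ :=
    { toFun := fun c =>
        { val := (fun i => (f (c i) : L), 1)
          inv := (fun i => ((f (c i))⁻¹ : Lˣ), 1)
          val_inv := Prod.ext (funext fun i => (f (c i)).mul_inv) (one_mul 1)
          inv_val := Prod.ext (funext fun i => (f (c i)).inv_mul) (one_mul 1) }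
      map_one' := Units.ext (Prod.ext (funext fun i => by simp) rfl)
      map_mul' := fun c c' => Units.ext (Prod.ext (funext fun i => by simp; rfl) (one_mul 1).symm) }
  refine ⟨(Units.map (Algebra.leftMulMatrix b).toRingHom.toMonoidHom).comp u, ?_⟩
  have hu : Function.Injective u := by
    intro c c' h
    funext i
    exact hf (Units.ext (congrFun (congrArg (fun x : Aˣ => (x : A).1) h) i))
  rw [MonoidHom.coe_comp]
  exact (Units.map_injective (Algebra.leftMulMatrix_injective b)).comp hu

/-- `GL_n(q)`: the Sylow `r`-subgroups are homocyclic for `r > n`. -/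
theorem gl_sylow_homocyclic (hq : Fintype.card F = q) {n : ℕ} (hrn : n < r) (hrq : ¬ r ∣ q)
    (P : Sylow r (GL (Fin n) F)) :
    Nonempty (↥(P : Subgroup (GL (Fin n) F)) ≃* (Fin (n / orderOf (q : ZMod r)) → Cyc r q)) := by
  obtain ⟨φ, hφ⟩ := exists_gl_torus hq n hrq
  refine sylow_equiv_of_embedding φ hφ ?_ P
  rw [padicValNat_card_gl hq hrn hrq, mul_comm, pow_mul, Nat.card_fun, Nat.card_eq_fintype_card (α := Fin _),
    Fintype.card_fin]
  simp

theorem card_sl_mul (n : ℕ) (hn : 1 ≤ n) :
    (Fintype.card F - 1) * Nat.card (SpecialLinearGroup (Fin n) F) = Nat.card (GL (Fin n) F) := by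
  rw [CfsgLib.Classical.Linear.card_sl n hn, Matrix.card_GL_field]

theorem padicValNat_card_sl (hq : Fintype.card F = q) {n : ℕ} (hrn : n < r) (hrq : ¬ r ∣ q) :
    padicValNat r (Nat.card (SpecialLinearGroup (Fin n) F)) =
      ((Finset.Icc 2 n).filter (fun i => orderOf (q : ZMod r) ∣ i)).card *
        padicValNat r (cyc q (orderOf (q : ZMod r))) := by
  rcases Nat.eq_zero_or_pos n with rfl | hn
  · simp
  have hq2 : 2 ≤ q := hq ▸ Fintype.one_lt_card
  have h := congrArg (padicValNat r) (card_sl_mul (F := F) n hn)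
  rw [padicValNat.mul (by rw [hq]; omega) Nat.card_pos.ne', padicValNat_card_gl hq hrn hrq, hq] at h
  have hins : Finset.Ioc 0 n = insert 1 (Finset.Icc 2 n) := by
    ext i; simp only [Finset.mem_Ioc, Finset.mem_insert, Finset.mem_Icc]; omega
  rw [← Nat.Ioc_filter_dvd_card_eq_div, hins, Finset.filter_insert] at h
  by_cases hd : orderOf (q : ZMod r) ∣ 1
  · rw [if_pos hd, Finset.card_insert_of_notMem (by simp)] at h
    have hv := padicValNat_pow_orderOf_sub_one hq2 hrq
    rw [Nat.dvd_one.mp hd, pow_one] at hv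
    rw [Nat.dvd_one.mp hd] at h ⊢
    rw [add_mul, one_mul, hv] at h
    omega
  · rw [if_neg hd] at h
    have h0 := padicValNat_pow_sub_one_eq_zero (by omega : 1 ≤ q) hd
    rw [pow_one] at h0
    omega

/-- `SL_n(q)`: the Sylow `r`-subgroups are homocyclic for `r > n`. -/
theorem sl_sylow_homocyclic (hq : Fintype.card F = q) {n : ℕ} (hrn : n < r) (hrq : ¬ r ∣ q)
    (P : Sylow r (SpecialLinearGroup (Fin n) F)) :
    Nonempty (↥(P : Subgroup (SpecialLinearGroup (Fin n) F)) ≃*
      (Fin ((Finset.Icc 2 n).filter (fun i => orderOf (q : ZMod r) ∣ i)).card → Cyc r q)) := by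
  have hq2 : 2 ≤ q := hq ▸ Fintype.one_lt_card
  set v := padicValNat r (cyc q (orderOf (q : ZMod r))) with hv
  set a := ((Finset.Icc 2 n).filter (fun i => orderOf (q : ZMod r) ∣ i)).card with ha
  obtain ⟨φ, hφ, hdet⟩ : ∃ φ : (Fin a → Cyc r q) →* GL (Fin n) F, Function.Injective φ ∧
      ∀ c, Matrix.GeneralLinearGroup.det (φ c) = 1 := by
    by_cases hd : orderOf (q : ZMod r) = 1
    · rcases Nat.eq_zero_or_pos n with rfl | hn
      · have ha0 : a = 0 := by simp [ha]
        refine ⟨1, fun x y _ => funext fun i => (Fin.cast ha0 i).elim0, fun c => map_one _⟩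
      obtain ⟨m, rfl⟩ : ∃ m, n = m + 1 := ⟨n - 1, by omega⟩
      have ham : a = m := by simp [ha, hd]
      obtain ⟨f, hf⟩ := exists_hom_units (L := F) (N := r ^ v) (by
        have := pow_padicValNat_dvd (p := r) (n := cyc q (orderOf (q : ZMod r)))
        rw [← hv] at this
        refine this.trans ((cyc_dvd hq2 (by omega)).trans ?_)
        rw [hd, pow_one, Nat.card_eq_fintype_card, hq])
      let D : (Fin (m + 1) → Fˣ) →* GL (Fin (m + 1)) F :=
        (Units.map (Matrix.diagonalRingHom (Fin (m + 1)) F).toMonoidHom).comp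
          MulEquiv.piUnits.symm.toMonoidHom
      let ψ : (Fin a → Cyc r q) →* (Fin (m + 1) → Fˣ) :=
        { toFun := fun c => Fin.cons (∏ i, f (c i))⁻¹ (fun i => f (c (Fin.cast ham.symm i)))
          map_one' := funext fun i => by refine Fin.cases ?_ (fun j => ?_) i <;> simp
          map_mul' := fun c c' => funext fun i => by
            refine Fin.cases ?_ (fun j => ?_) i <;>
              simp [Finset.prod_mul_distrib, mul_comm] }
      refine ⟨D.comp ψ, ?_, fun c => ?_⟩
      · have hD : Function.Injective D :=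
          (Units.map_injective Matrix.diagonal_injective).comp MulEquiv.piUnits.symm.injective
        refine hD.comp fun c c' h => funext fun i => hf ?_
        simpa [ψ] using congrFun h (Fin.succ (Fin.cast ham i))
      · apply Units.ext
        show Matrix.det (Matrix.diagonal fun i => ((ψ c i : Fˣ) : F)) = 1
        rw [Matrix.det_diagonal, ← Units.coe_prod, Fin.prod_univ_succ]
        show ((((∏ i, f (c i))⁻¹) * ∏ i, f (c (Fin.cast ham.symm i)) : Fˣ) : F) = 1
        rw [← Equiv.prod_comp (finCongr ham.symm) (fun i => f (c i))]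
        simp [finCongr]
    · have hd2 : ¬ orderOf (q : ZMod r) ∣ 1 := fun h => hd (Nat.dvd_one.mp h)
      have hins : Finset.Ioc 0 n = Finset.Icc 1 n := rfl
      have haeq : a = n / orderOf (q : ZMod r) := by
        rw [← Nat.Ioc_filter_dvd_card_eq_div, ha, hins]
        congr 1
        ext i
        simp only [Finset.mem_filter, Finset.mem_Icc]
        constructor
        · rintro ⟨h, h'⟩; exact ⟨⟨by omega, h.2⟩, h'⟩
        · rintro ⟨h, h'⟩
          refine ⟨⟨?_, h.2⟩, h'⟩
          by_contra hlt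
          obtain rfl : i = 1 := by omega
          exact hd2 h'
      rw [haeq]
      obtain ⟨φ, hφ⟩ := exists_gl_torus hq n hrq
      refine ⟨φ, hφ, fun c => ?_⟩
      set u := Matrix.GeneralLinearGroup.det (φ c) with hu
      have h1 : orderOf u ∣ r ^ v := by
        refine (orderOf_map_dvd (Matrix.GeneralLinearGroup.det.comp φ) c).trans
          (orderOf_dvd_of_pow_eq_one (funext fun i => ?_))
        rw [Pi.pow_apply, Pi.one_apply, ← toAdd_eq_zero, toAdd_pow, nsmul_eq_mul, ZMod.natCast_self,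
          zero_mul]
      have h2 : orderOf u ∣ q - 1 := by
        refine (orderOf_dvd_natCard u).trans ?_
        rw [Nat.card_units, Nat.card_eq_fintype_card, hq]
      have h3 : ¬ r ∣ q - 1 := fun h => hd2 ((dvd_pow_sub_one_iff (by omega) 1).mp (by rwa [pow_one]))
      rw [← orderOf_eq_one_iff]
      exact Nat.eq_one_of_dvd_coprimes
        (Nat.Coprime.pow_left v (hr.out.coprime_iff_not_dvd.mpr h3)) h1 h2
  let φ' : (Fin a → Cyc r q) →* SpecialLinearGroup (Fin n) F :=
    { toFun := fun c => ⟨((φ c : GL (Fin n) F) : Matrix (Fin n) (Fin n) F), congrArg Units.val (hdet c)⟩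
      map_one' := Subtype.ext (by simp)
      map_mul' := fun c c' => Subtype.ext (by simp; rfl) }
  refine sylow_equiv_of_embedding φ' (fun c c' h => hφ (Units.ext (congrArg Subtype.val h))) ?_ P
  rw [padicValNat_card_sl hq hrn hrq, mul_comm, pow_mul, Nat.card_fun, Nat.card_eq_fintype_card (α := Fin _),
    Fintype.card_fin]
  simp [hv, ha]

end

end CfsgLib.Zsigmondy.SylowLinear
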